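import Cfsg.Agent.H821.K547.Defs
import Cfsg.Agent.H601.K4.InvParity
import Cfsg.Agent.H740.K4.Equiv
import Cfsg.Agent.H740.K4.Four
import Cfsg.Agent.SmallSimple.SelfCentPrime

/-!
# S4547: (PAR), a further good invariant character from a column of odd order (helper834)

* `exists_new_inv` : `τ` of 2-power order modulo inner automorphisms, `t` of odd order with `τ t` conjugate to `t`, some
  good `τ`-invariant characters whose values at `t` have an odd (integral) sum: there is a further one;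
* `gInv3_of_two` : two of them with an odd sum give `GInv3 τ`; `gInv3_of_zero` : one which vanishes at `t`;
* `isConj_of_self` : if `C(t) = <t>` has prime order `p` and `|S| / p ≡ -1 (mod p)`, then all elements of order `p` are
  conjugate;
* `GInv3.of_equiv` : transport.
-/

set_option autoImplicit false

open scoped ComplexConjugate
open Cfsg Cfsg.Agent.Characters.Core Cfsg.Agent.H618.Sigma Cfsg.Agent.Blocks.Local

namespace Cfsg.Agent.H834.K547

open Cfsg.Agent.H601.K4 Cfsg.Agent.H821.K547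

universe u v

variable {S : Type u} [Group S]

/-- the action of an automorphism on the members of odd degree of the principal 2-block -/
noncomputable def tauB (τ : MulAut S) (M : Ideal AlgInt) [M.IsPrime] (χ : OddB M S) : OddB M S :=
  ⟨tauI τ χ.1, Cfsg.Agent.H133.PB.mem_principalBlock_comp τ.toMonoidHom τ.surjective χ.2.1, by
    rw [charDegree_tauI]; exact χ.2.2⟩

theorem tauB_coe (τ : MulAut S) (M : Ideal AlgInt) [M.IsPrime] (χ : OddB M S) : (tauB τ M χ).1 = tauI τ χ.1 := rfl

theorem tauB_iter (τ : MulAut S) (M : Ideal AlgInt) [M.IsPrime] (χ : OddB M S) (m : ℕ) :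
    ((tauB τ M)^[m] χ).1 = (tauI τ)^[m] χ.1 := by
  induction m generalizing χ with
  | zero => rfl
  | succ m ih => rw [Function.iterate_succ_apply, Function.iterate_succ_apply, ih, tauB_coe]

/-- **(PAR)**: a further good `τ`-invariant character. -/
theorem exists_new_inv [Finite S] (hev : Even (Nat.card S)) {τ : MulAut S} (hτ : TwoPow τ) (s : Finset (S → ℂ))
    (hs : ∀ χ ∈ s, Good χ ∧ ∀ x, χ (τ x) = χ x) {t : S} (ht : Odd (orderOf t)) (htt : IsConj (τ t) t) {n : ℤ}
    (hn : Odd n) (hsum : ∑ χ ∈ s, χ t = (n : ℂ)) :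
    ∃ χ : S → ℂ, (Good χ ∧ ∀ x, χ (τ x) = χ x) ∧ χ ∉ s := by
  classical
  by_contra hcon
  push Not at hcon
  obtain ⟨k, hk⟩ := H740.K4.exists_cube S
  obtain ⟨M, hM⟩ := Cfsg.Agent.Blocks.ExistsModular.exists_isPModular Nat.prime_two
  have hMp : M.IsPrime := hM.2.1.isPrime
  have : Finite (IrrCharacter S) := finite_irr
  have := Fintype.ofFinite (OddB M S)
  have hchar := charP_resField hM
  have h1 := sum_fixed_principal hM hk hev ht
  obtain ⟨e, a, ha⟩ := hτ
  rw [sum_fixed_pred (tauB τ M) e (fun χ => Subtype.ext (by rw [tauB_iter, tauI_two ha]))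
    (fun χ => sigB hk M χ = χ) (fun χ h => by
      rw [sigB_eq_iff] at h ⊢
      intro g
      rw [tauB_coe, tauI_apply, tauI_apply, map_pow]
      exact h _) (fun χ => redC M ((χ.1 : S → ℂ) t)) (fun χ _ => by
      rw [tauB_coe, tauI_apply]
      obtain ⟨c, hc⟩ := isConj_iff.1 htt
      have h9 := isIrr_isClassFunction χ.1.2 (τ t) c
      rw [hc] at h9
      rw [h9])] at h1
  -- the set of the fixed ones is the given set
  have h2 : ∑ χ ∈ s, redC M (χ t) = 0 := by
    rw [← h1]
    symm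
    refine Finset.sum_bij (fun (χ : OddB M S) _ => (χ.1 : S → ℂ)) ?_ ?_ ?_ ?_
    · intro χ hχ
      obtain ⟨h3, h4⟩ := (Finset.mem_filter.1 hχ).2
      refine hcon _ ⟨H740.K4.good_of_mem hM hk χ h3, ?_⟩
      exact (tauI_eq_iff τ χ.1).1 (congrArg Subtype.val h4)
    · intro a _ b _ h
      exact Subtype.ext (Subtype.ext h)
    · intro χ hχ
      obtain ⟨h3, h4⟩ := hs χ hχ
      refine ⟨⟨⟨χ, h3.odd.1⟩, h3.b0 M hM _, odd_iff.2 h3.odd.2⟩, ?_, rfl⟩
      refine Finset.mem_filter.2 ⟨Finset.mem_univ _, (sigB_eq_iff hk _).2 ?_, ?_⟩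
      · exact h3.sig k hk.two hk.odd
      · exact Subtype.ext ((tauI_eq_iff τ _).2 h4)
    · intro χ _
      rfl
  have h3 : redC M (∑ χ ∈ s, χ t) = 0 := by
    rw [redC_sum fun χ hχ => memLocalRing_irr ⟨χ, (hs χ hχ).1.odd.1⟩ t]
    exact h2
  rw [hsum, redC_eq_zero_iff (memLocalRing_intCast n), memLocalIdeal_intCast_iff hM] at h3
  exact (Int.not_even_iff_odd.2 hn) (even_iff_two_dvd.2 h3)

/-- Three good invariant characters from two with an odd sum. -/
theorem gInv3_of_two [Finite S] (hev : Even (Nat.card S)) {τ : MulAut S} (hτ : TwoPow τ) {a b : S → ℂ} (hab : a ≠ b)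
    (ha : Good a) (ha' : ∀ x, a (τ x) = a x) (hb : Good b) (hb' : ∀ x, b (τ x) = b x) {t : S}
    (ht : Odd (orderOf t)) (htt : IsConj (τ t) t) {n : ℤ} (hn : Odd n) (hsum : a t + b t = (n : ℂ)) : GInv3 τ := by
  classical
  obtain ⟨c, ⟨hc, hc'⟩, hcs⟩ := exists_new_inv hev hτ {a, b} (by
    intro χ h
    simp only [Finset.mem_insert, Finset.mem_singleton] at h
    rcases h with rfl | rfl
    · exact ⟨ha, ha'⟩
    · exact ⟨hb, hb'⟩) ht htt hn (by rw [Finset.sum_insert (by simpa using hab), Finset.sum_singleton, hsum])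
  simp only [Finset.mem_insert, Finset.mem_singleton, not_or] at hcs
  refine ⟨![a, b, c], ?_, ?_⟩
  · intro i j hij
    have n1 := hcs.1
    have n2 := hcs.2
    fin_cases i <;> fin_cases j <;> simp_all [Ne.symm]
  · intro i
    fin_cases i
    · exact ⟨ha, ha'⟩
    · exact ⟨hb, hb'⟩
    · exact ⟨hc, hc'⟩

/-- Three good invariant characters from one which vanishes at `t`. -/
theorem gInv3_of_zero [Finite S] (hev : Even (Nat.card S)) {τ : MulAut S} (hτ : TwoPow τ) {b : S → ℂ}
    (hb : Good b) (hb' : ∀ x, b (τ x) = b x) {t : S}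
    (ht : Odd (orderOf t)) (htt : IsConj (τ t) t) (h0 : b t = 0) : GInv3 τ := by
  refine gInv3_of_two hev hτ (a := fun _ => 1) (fun h => ?_) H740.K4.good_one' (fun _ => rfl) hb hb' ht htt
    (n := 1) odd_one (by rw [h0]; norm_num)
  rw [← h] at h0
  exact one_ne_zero h0

/-- **One class of elements of order `p`.** -/
theorem isConj_of_self [Finite S] {p m : ℕ} [hp : Fact p.Prime] (hm : Nat.card S = p * m) {t : S}
    (ht : orderOf t = p) (hC : Nat.card (Subgroup.centralizer ({t} : Set S)) = p) (hmod : (m + 1) % p = 0)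
    {x y : S} (hx : orderOf x = p) (hy : orderOf y = p) : IsConj x y := by
  classical
  have hpp := hp.out
  have hCt : Subgroup.centralizer ({t} : Set S) = Subgroup.zpowers t := by
    symm
    apply Subgroup.eq_of_le_of_card_ge
    · rw [Subgroup.zpowers_le, Subgroup.mem_centralizer_singleton_iff]
    · rw [hC, Nat.card_zpowers, ht]
  have h1 := Cfsg.Agent.SmallSimple.SelfCentPrime.card_classes_mul ht hCt
  obtain ⟨P, hP⟩ := Cfsg.Agent.SmallSimple.SelfCentPrime.exists_sylow_eq_zpowers ht hCt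
  have hmpos : 0 < m := by
    rcases Nat.eq_zero_or_pos m with h | h
    · rw [h, mul_zero] at hm
      exact absurd hm Nat.card_pos.ne'
    · exact h
  have h2 : Nat.card (Sylow p S) ≡ 1 [MOD p] := card_sylow_modEq_one p S
  have h3 : Nat.card (Sylow p S) ∣ m := by
    have h4 := P.card_dvd_index
    have h5 : (P : Subgroup S).index = m := by
      have h6 := (P : Subgroup S).card_mul_index
      rw [hP, Nat.card_zpowers, ht, hm] at h6
      rw [hP]
      exact Nat.eq_of_mul_eq_mul_left hpp.pos h6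
    rwa [h5] at h4
  obtain ⟨c, hc⟩ : ∃ c, c = Nat.card {c : ConjClasses S // ∃ g : S, ConjClasses.mk g = c ∧ orderOf g = p} := ⟨_, rfl⟩
  rw [← hc] at h1
  obtain ⟨n, hn⟩ : ∃ n, n = Nat.card (Sylow p S) := ⟨_, rfl⟩
  rw [← hn] at h1 h2 h3
  have h4 : m * c = n * (p - 1) := by
    rw [hm] at h1
    apply Nat.eq_of_mul_eq_mul_left hpp.pos
    calc p * (m * c) = p * m * c := by ring
      _ = n * (p - 1) * p := h1
      _ = p * (n * (p - 1)) := by ring
  have hcle : c ≤ p - 1 := by
    have h5 : m * c ≤ m * (p - 1) := by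
      rw [h4]
      exact Nat.mul_le_mul_right _ (Nat.le_of_dvd hmpos h3)
    exact Nat.le_of_mul_le_mul_left h5 hmpos
  have hc1 : c ≡ 1 [MOD p] := by
    -- `m ≡ -1`, `n ≡ 1`
    have h6 : ((m : ZMod p)) = -1 := by
      have : (((m + 1 : ℕ)) : ZMod p) = 0 := (ZMod.natCast_eq_zero_iff _ _).2 (Nat.dvd_of_mod_eq_zero hmod)
      push_cast at this
      exact eq_neg_of_add_eq_zero_left this
    have h7 : ((n : ZMod p)) = 1 := by
      have := (ZMod.natCast_eq_natCast_iff n 1 p).2 h2
      simpa using this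
    have h8 := congrArg (Nat.cast : ℕ → ZMod p) h4
    rw [Nat.cast_mul, Nat.cast_mul, h6, h7, Nat.cast_sub hpp.one_le] at h8
    have h9 : (c : ZMod p) = ((1 : ℕ) : ZMod p) := by
      have : (p : ZMod p) = 0 := ZMod.natCast_self p
      rw [this] at h8
      push_cast at h8 ⊢
      linear_combination -h8
    exact (ZMod.natCast_eq_natCast_iff _ _ _).1 h9
  have hp2 := hpp.two_le
  have hceq : c = 1 := by
    have h10 : c % p = 1 % p := hc1
    rw [Nat.mod_eq_of_lt (by omega : c < p), Nat.mod_eq_of_lt (by omega : 1 < p)] at h10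
    exact h10
  rw [hceq] at hc
  have hsub := (Nat.card_eq_one_iff_unique.1 hc.symm).1
  have h11 : (⟨ConjClasses.mk x, x, rfl, hx⟩ : {c : ConjClasses S // ∃ g : S, ConjClasses.mk g = c ∧ orderOf g = p}) =
      ⟨ConjClasses.mk y, y, rfl, hy⟩ := Subsingleton.elim _ _
  exact ConjClasses.mk_eq_mk_iff_isConj.1 (congrArg Subtype.val h11)

/-- transport of `GInv3` -/
theorem gInv3_of_equiv {T : Type v} [Group T] (e : T ≃* S) {τ : MulAut S} {σ : MulAut T}
    (h : ∀ x, e (σ x) = τ (e x)) (hG : GInv3 τ) : GInv3 σ := by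
  obtain ⟨χ, h1, h2⟩ := hG
  refine ⟨fun i t => χ i (e t), fun i j hij => h1 ?_, fun i => ⟨H740.K4.good_comp e (h2 i).1, fun x => ?_⟩⟩
  · funext s
    have := congrFun hij (e.symm s)
    simpa using this
  · show χ i (e (σ x)) = χ i (e x)
    rw [h, (h2 i).2]

/-- the transported automorphism -/
def tr {T : Type v} [Group T] (e : T ≃* S) (σ : MulAut T) : MulAut S := (e.symm.trans σ).trans e

theorem tr_apply {T : Type v} [Group T] (e : T ≃* S) (σ : MulAut T) (x : T) : e (σ x) = tr e σ (e x) := by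
  show e (σ x) = e (σ (e.symm (e x)))
  rw [e.symm_apply_apply]

theorem tr_pow {T : Type v} [Group T] (e : T ≃* S) (σ : MulAut T) (n : ℕ) (x : S) :
    (tr e σ ^ n) x = e ((σ ^ n) (e.symm x)) := by
  induction n generalizing x with
  | zero => simp
  | succ n ih =>
    rw [pow_succ, pow_succ, MulAut.mul_apply, MulAut.mul_apply, ih]
    congr 2
    show e.symm (e (σ (e.symm x))) = _
    rw [e.symm_apply_apply]

theorem TwoPow.tr {T : Type v} [Group T] (e : T ≃* S) {σ : MulAut T} (h : TwoPow σ) : TwoPow (tr e σ) := by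
  obtain ⟨k, s, hs⟩ := h
  refine ⟨k, e s, fun x => ?_⟩
  rw [tr_pow, hs, map_mul, map_mul, map_inv, e.apply_symm_apply]

theorem isInn_of_tr {T : Type v} [Group T] (e : T ≃* S) {σ : MulAut T} (h : IsInn (tr e σ)) : IsInn σ := by
  obtain ⟨s, hs⟩ := h
  refine ⟨e.symm s, fun x => e.injective ?_⟩
  rw [tr_apply, hs, map_mul, map_mul, map_inv, e.apply_symm_apply]

/-- the square of an automorphism is inner if `|Out| ≤ 2` -/
theorem sq_inner_of_index (h2 : (MulAut.conj : S →* MulAut S).range.index = 2) (τ : MulAut S) :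
    ∃ s : S, τ ^ 2 = MulAut.conj s := by
  have := Subgroup.sq_mem_of_index_two h2 τ
  obtain ⟨s, hs⟩ := this
  exact ⟨s, hs.symm⟩

end Cfsg.Agent.H834.K547
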