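import Cfsg.Agent.H834.K547.SuzRow
import Cfsg.Agent.H845.K547.Jordan
import Cfsg.Agent.S1694

/-!
# S4547: the row of `Suz` closed (helper834)
-/

set_option autoImplicit false

namespace Cfsg.Agent.H834.K547

open Cfsg Cfsg.Agent.H821.K547 Cfsg.Agent.H845.K547
open Cfsg.Spor (Suz)

universe u

/-- **(K547-SP-Suz)** -/
theorem row {S : Type u} [Group S] (h : Spor.IsoSuz S) : Row S := by
  have hf : Finite Suz := Cfsg.Agent.H978.TZ.Suzuki.finS
  have hs : IsSimpleGroup Suz := Cfsg.Agent.S1694.result.1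
  obtain ⟨e⟩ := h
  have h' : Spor.IsoSuz S := ⟨e⟩
  have : Finite S := Finite.of_equiv Suz e.symm.toEquiv
  have : IsSimpleGroup S := MulEquiv.isSimpleGroup e
  have hna : ¬ IsMulCommutative S := by
    intro hc
    have hcard : Nat.card S = 448345497600 := by
      rw [Nat.card_congr e.toEquiv]; exact Cfsg.Agent.H299.K4.SuzRow.card_suz
    have : (Nat.card S).Prime := by
      letI : CommGroup S := { (inferInstance : Group S) with mul_comm := fun a b => hc.1.1 a b }
      exact IsSimpleGroup.prime_card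
    rw [hcard] at this
    revert this
    norm_num
  refine ⟨base_suz h', fun τ hτ hn => ⟨fun _ => ?_, fun _ => gInv3_suz h' hτ⟩⟩
  refine d3_autExt hna (d3_suz h') ?_ hn
  obtain ⟨s, hs'⟩ := sq_suz h' τ
  exact ⟨s, fun x => by rw [hs', MulAut.conj_apply]⟩

end Cfsg.Agent.H834.K547
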