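import Cfsg.Agent.SporRec.SuzCl.PcList
import Cfsg.Agent.H821.K547.Defs

/-!
# Homomorphisms to elementary abelian 2-groups from involutory polycyclic generators (helper834, S4547)

`PcList` : `Gs` a list of involutions, each normalising the subgroup generated by the following ones. `PCL Gs cs`: a list
`cs` of labels in an elementary abelian group which is compatible with the relations `g h g⁻¹ = pr l m`.

`exists_hom` : then there is a homomorphism from the closure with these values; `rk_of_pcl` : the form used for S4547.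
-/

set_option autoImplicit false

namespace Cfsg.Agent.H834.K547

open Cfsg.Agent.SporRec.SuzCl Cfsg.Agent.H821.K547

section gen

variable {M : Type*} [Group M] {A : Type*} [AddCommGroup A]

/-- the label of a number -/
def lb : List A → ℕ → A
  | [], _ => 0
  | c :: cs, k => (if k % 2 = 1 then c else 0) + lb cs (k / 2)

theorem lb_even (c : A) (cs : List A) (k : ℕ) : lb (c :: cs) (2 * k) = lb cs k := by
  show (if 2 * k % 2 = 1 then c else 0) + lb cs (2 * k / 2) = _
  rw [if_neg (by omega), zero_add, Nat.mul_div_cancel_left _ (by norm_num)]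

theorem lb_odd (c : A) (cs : List A) (k : ℕ) : lb (c :: cs) (2 * k + 1) = c + lb cs k := by
  show (if (2 * k + 1) % 2 = 1 then c else 0) + lb cs ((2 * k + 1) / 2) = _
  rw [if_pos (by omega)]
  congr 2
  omega

/-- `x` has label `a` -/
def Lab (l : List M) (cs : List A) (x : M) (a : A) : Prop := ∃ k < 2 ^ l.length, x = pr l k ∧ lb cs k = a

/-- labelled involutory polycyclic sequences -/
def PCL : List M → List A → Prop
  | [], [] => True
  | g :: l, c :: cs => g * g = 1 ∧ List.Forall₂ (fun h b => Lab l cs (g * h * g⁻¹) b) l cs ∧ PCL l cs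
  | _, _ => False

theorem Lab.one (l : List M) (cs : List A) : Lab l cs 1 0 := by
  refine ⟨0, by positivity, ?_, ?_⟩
  · induction l with
    | nil => rfl
    | cons g l ih => have := pr_even g l 0; rw [Nat.mul_zero] at this; rw [this, ← ih]
  · induction cs with
    | nil => rfl
    | cons c cs ih => have := lb_even c cs 0; rw [Nat.mul_zero] at this; rw [this, ih]

theorem lab_cons_even {g : M} {l : List M} {c : A} {cs : List A} {x : M} {a : A} (h : Lab l cs x a) :
    Lab (g :: l) (c :: cs) x a := by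
  obtain ⟨k, hk, rfl, rfl⟩ := h
  exact ⟨2 * k, by rw [List.length_cons, pow_succ]; omega, (pr_even g l k).symm, lb_even c cs k⟩

theorem lab_cons_odd {g : M} {l : List M} {c : A} {cs : List A} {x : M} {a : A} (h : Lab l cs x a) :
    Lab (g :: l) (c :: cs) (g * x) (c + a) := by
  obtain ⟨k, hk, rfl, rfl⟩ := h
  exact ⟨2 * k + 1, by rw [List.length_cons, pow_succ]; omega, (pr_odd g l k).symm, lb_odd c cs k⟩

theorem lab_cons_cases {g : M} {l : List M} {c : A} {cs : List A} {x : M} {a : A} (h : Lab (g :: l) (c :: cs) x a) :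
    Lab l cs x a ∨ ∃ y b, Lab l cs y b ∧ x = g * y ∧ a = c + b := by
  obtain ⟨k, hk, rfl, rfl⟩ := h
  rw [List.length_cons, pow_succ] at hk
  rcases Nat.even_or_odd' k with ⟨m, rfl | rfl⟩
  · left
    rw [pr_even, lb_even]
    exact ⟨m, by omega, rfl, rfl⟩
  · right
    rw [pr_odd, lb_odd]
    exact ⟨_, _, ⟨m, by omega, rfl, rfl⟩, rfl, rfl⟩

theorem conj_lab {g : M} {l : List M} {cs : List A}
    (hmul : ∀ x a y b, Lab l cs x a → Lab l cs y b → Lab l cs (x * y) (a + b)) :
    ∀ (hs : List M) (bs : List A), List.Forall₂ (fun h b => Lab l cs (g * h * g⁻¹) b) hs bs →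
      ∀ x a, Lab hs bs x a → Lab l cs (g * x * g⁻¹) a := by
  intro hs bs h
  induction h with
  | nil =>
    rintro x a ⟨k, hk, rfl, rfl⟩
    have : g * pr ([] : List M) k * g⁻¹ = 1 := by rw [pr_nil, mul_one, mul_inv_cancel]
    rw [this]
    exact Lab.one l cs
  | @cons h b hs bs h1 h2 ih =>
    intro x a hx
    rcases lab_cons_cases hx with hx | ⟨y, a', hy, rfl, rfl⟩
    · exact ih x a hx
    · have h3 : g * (h * y) * g⁻¹ = (g * h * g⁻¹) * (g * y * g⁻¹) := by group
      rw [h3]
      exact hmul _ _ _ _ h1 (ih y a' hy)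

theorem lab_mul (h2 : ∀ a : A, a + a = 0) : ∀ (l : List M) (cs : List A), PCL l cs →
    ∀ x a y b, Lab l cs x a → Lab l cs y b → Lab l cs (x * y) (a + b) := by
  intro l
  induction l with
  | nil =>
    intro cs h x a y b hx hy
    cases cs with
    | nil =>
      obtain ⟨k, -, rfl, rfl⟩ := hx
      obtain ⟨k', -, rfl, rfl⟩ := hy
      rw [pr_nil, pr_nil, one_mul]
      exact ⟨0, by simp, rfl, (add_zero _).symm⟩
    | cons c cs => exact h.elim
  | cons g l ih =>
    intro cs h x a y b hx hy
    cases cs with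
    | nil => exact h.elim
    | cons c cs =>
      obtain ⟨hgg, hrel, hl⟩ := h
      have hgi : g⁻¹ = g := inv_eq_of_mul_eq_one_left hgg
      have hm := ih cs hl
      have hc := conj_lab (g := g) hm l cs hrel
      rcases lab_cons_cases hx with hx | ⟨n, a', hn, rfl, rfl⟩ <;>
        rcases lab_cons_cases hy with hy | ⟨m, b', hm', rfl, rfl⟩
      · exact lab_cons_even (hm _ _ _ _ hx hy)
      · have h3 : x * (g * m) = g * ((g * x * g⁻¹) * m) := by
          rw [hgi]
          calc x * (g * m) = (g * g) * x * g * m := by rw [hgg]; group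
            _ = _ := by group
        have h4 : a + (c + b') = c + (a + b') := by abel
        rw [h3, h4]
        exact lab_cons_odd (hm _ _ _ _ (hc _ _ hx) hm')
      · rw [mul_assoc, add_assoc]
        exact lab_cons_odd (hm _ _ _ _ hn hy)
      · have h3 : g * n * (g * m) = (g * n * g⁻¹) * m := by rw [hgi]; group
        have h4 : c + a' + (c + b') = a' + b' := by
          calc c + a' + (c + b') = (c + c) + (a' + b') := by abel
            _ = _ := by rw [h2, zero_add]
        rw [h3, h4]
        exact lab_cons_even (hm _ _ _ _ (hc _ _ hn) hm')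

theorem PCL.pc : ∀ (l : List M) (cs : List A), PCL l cs → PC l := by
  intro l
  induction l with
  | nil => intro _ _; trivial
  | cons g l ih =>
    intro cs h
    cases cs with
    | nil => exact h.elim
    | cons c cs =>
      obtain ⟨hgg, hrel, hl⟩ := h
      refine ⟨hgg, fun x hx => ?_, ih cs hl⟩
      obtain ⟨i, hi, rfl⟩ := List.getElem_of_mem hx
      obtain ⟨b, hb⟩ : ∃ b, Lab l cs (g * l[i] * g⁻¹) b := by
        have hlen := hrel.length_eq
        exact ⟨_, (List.forall₂_iff_get.1 hrel).2 i hi (hlen ▸ hi)⟩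
      obtain ⟨k, -, hk, -⟩ := hb
      rw [hk]
      exact pr_mem _ _

/-- the homomorphism with given values -/
theorem exists_hom (h2 : ∀ a : A, a + a = 0) {l : List M} {cs : List A} (h : PCL l cs)
    (h1 : ∀ k < 2 ^ l.length, pr l k = 1 → k = 0) :
    ∃ f : Subgroup.closure {x | x ∈ l} →* Multiplicative A, ∀ (x : Subgroup.closure {x | x ∈ l}) (a : A), Lab l cs (x : M) a → f x = Multiplicative.ofAdd a := by
  have hpc := PCL.pc l cs h
  have hex : ∀ x : Subgroup.closure {x | x ∈ l}, ∃ a, Lab l cs (x : M) a := by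
    intro x
    obtain ⟨k, hk, hx⟩ := exists_pr l hpc x x.2
    exact ⟨_, k, hk, hx, rfl⟩
  have huniq : ∀ (x : M) a b, Lab l cs x a → Lab l cs x b → a = b := by
    rintro x a b ⟨k, hk, rfl, rfl⟩ ⟨k', hk', h3, rfl⟩
    rw [pr_inj l hpc h1 k hk k' hk' h3]
  choose F hF using hex
  refine ⟨MonoidHom.mk' (fun x => Multiplicative.ofAdd (F x)) ?_, ?_⟩
  · intro x y
    rw [← ofAdd_add]
    congr 1
    exact huniq _ _ _ (hF (x * y)) (lab_mul h2 l cs h _ _ _ _ (hF x) (hF y))
  · intro x a hx
    show Multiplicative.ofAdd (F x) = _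
    rw [huniq _ _ _ (hF x) hx]

end gen

theorem rk_of_pcl {M : Type} [Group M] {n : ℕ} {l : List M} {cs : List (Fin n → ZMod 2)} (h : PCL l cs)
    (h1 : ∀ k < 2 ^ l.length, pr l k = 1 → k = 0) (hs : ∀ a : Fin n → ZMod 2, ∃ k < 2 ^ l.length, lb cs k = a) :
    Rk n (Subgroup.closure {x | x ∈ l}) := by
  obtain ⟨f, hf⟩ := exists_hom (fun a => by
    funext i
    show a i + a i = 0
    generalize a i = x
    revert x; decide) h h1
  refine ⟨f, fun a => ?_⟩
  obtain ⟨k, hk, hka⟩ := hs (Multiplicative.toAdd a)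
  refine ⟨⟨pr l k, pr_mem l k⟩, ?_⟩
  rw [hf _ (Multiplicative.toAdd a) ⟨k, hk, rfl, hka⟩]
  rfl

end Cfsg.Agent.H834.K547
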