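import Cfsg.Agent.H834.K547.PcRk
import Cfsg.Agent.SporRec.SuzCl.TData

/-!
# S4547, row `Suz`: the Sylow 2-subgroups need at least three generators (helper834)

The Sylow 2-subgroup of `SuzCl.TData` (thirteen involutory polycyclic generators) has four independent homomorphisms to
`C₂`; three of them are used.
-/

set_option autoImplicit false
set_option maxRecDepth 100000

namespace Cfsg.Agent.H834.K547

open Cfsg.Agent.SporRec.SuzCl Cfsg.Agent.H821.K547
open Cfsg.Spor Cfsg.Agent.SporadicRecognition.SuzPhi Cfsg.Agent.SporadicRecognition.SuzOrder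

/-- check of the labels of one generator -/
def lbRow {A : Type*} [AddCommGroup A] [DecidableEq A] (full : List A) : List A → List ℕ → Bool
  | [], [] => true
  | b :: bs, m :: ms => decide (m < 2 ^ full.length) && decide (lb full m = b) && lbRow full bs ms
  | _, _ => false

def lbChk {A : Type*} [AddCommGroup A] [DecidableEq A] : List A → List (List ℕ) → Bool
  | [], _ => true
  | _ :: cs, ms :: mss => lbRow cs cs ms && lbChk cs mss
  | _, _ => false

theorem rel_spec {A : Type*} [AddCommGroup A] [DecidableEq A] {t : ℕ} {g : Suz} (ht : R t g) {full : List ℕ}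
    {gf : List Suz} (hf : List.Forall₂ R full gf) {cs : List A} (hlen : cs.length = gf.length)
    {us : List ℕ} {hs : List Suz} (hu : List.Forall₂ R us hs) :
    ∀ (ms : List ℕ) (bs : List A), relI t full us ms = true → lbRow cs bs ms = true → bs.length = hs.length →
      List.Forall₂ (fun h b => Lab gf cs (g * h * g⁻¹) b) hs bs := by
  induction hu with
  | nil =>
    intro ms bs _ _ hl
    rw [List.length_nil, List.length_eq_zero_iff] at hl
    subst hl
    exact .nil
  | @cons u h us hs h1 h2 ih =>
    intro ms bs hms hb hl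
    cases bs with
    | nil => exact absurd hl (by simp)
    | cons b bs =>
      cases ms with
      | nil => exact absurd hms (by simp [relI])
      | cons m ms =>
        rw [relI, Bool.and_eq_true] at hms
        rw [lbRow, Bool.and_eq_true, Bool.and_eq_true, decide_eq_true_eq, decide_eq_true_eq] at hb
        refine .cons ?_ (ih ms bs hms.2 hb.2 (by simpa using hl))
        have h3 : g * h = pr gf m * g := by
          refine eq_of_eqB (f := fun p => app t (app u p)) (g := fun p => tev full m 0 (app t p)) ?_ ?_ hms.1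
          · intro p hp
            rw [map_mul, Equiv.Perm.mul_apply, (h1 p hp).1, (ht _ (h1 p hp).2).1]
          · intro p hp
            rw [map_mul, Equiv.Perm.mul_apply, (ht p hp).1, (tev_zero hf m _ (ht p hp).2).1]
        rw [h3, mul_inv_cancel_right]
        exact ⟨m, by rw [← hlen]; exact hb.1.1, rfl, hb.1.2⟩

theorem pcl_of {A : Type*} [AddCommGroup A] [DecidableEq A] {ts : List ℕ} {gs : List Suz} (h : List.Forall₂ R ts gs) :
    ∀ (mss : List (List ℕ)) (cs : List A), pcChk ts mss = true → lbChk cs mss = true → cs.length = gs.length →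
      PCL gs cs := by
  induction h with
  | nil =>
    intro _ cs _ _ hl
    rw [List.length_nil, List.length_eq_zero_iff] at hl
    subst hl
    trivial
  | @cons t g ts gs h1 h2 ih =>
    intro mss cs hms hlb hl
    cases cs with
    | nil => exact absurd hl (by simp)
    | cons c cs =>
      cases mss with
      | nil => exact absurd hms (by simp [pcChk])
      | cons ms mss =>
        rw [pcChk, Bool.and_eq_true, Bool.and_eq_true] at hms
        rw [lbChk, Bool.and_eq_true] at hlb
        have hl' : cs.length = gs.length := by simpa using hl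
        refine ⟨?_, rel_spec h1 h2 hl' h2 ms cs hms.1.2 hlb.1 hl', ih mss cs hms.2 hlb.2 hl'⟩
        refine eq_of_eqB (f := fun p => app t (app t p)) (g := fun p => p) ?_ ?_ hms.1.1
        · intro p hp
          rw [map_mul, Equiv.Perm.mul_apply, (h1 p hp).1, (h1 _ (h1 p hp).2).1]
        · intro p _
          rw [map_one]; rfl

/-- the labels -/
def cS : List (Fin 3 → ZMod 2) := [![1, 0, 0], ![0, 1, 0], 0, 0, ![0, 0, 1], 0, 0, 0, 0, 0, 0, 0, 0]

theorem rk_T : Rk 3 T := by
  refine rk_of_pcl (l := Gs) (cs := cS) (pcl_of R_Ts MS cS (by decide +kernel) (by decide +kernel) rfl) pr_ne_one ?_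
  have h : ∀ a : Fin 3 → ZMod 2, lb cS ((a 0).val + 2 * (a 1).val + 16 * (a 2).val) = a := by decide
  intro a
  refine ⟨_, ?_, h a⟩
  have h0 := (a 0).val_lt
  have h1 := (a 1).val_lt
  have h2 := (a 2).val_lt
  have hlen : Gs.length = 13 := rfl
  rw [hlen]
  omega

/-- D3 for the Sylow 2-subgroups of a group isomorphic to the Suzuki group -/
theorem d3_suz {S : Type*} [Group S] (h : IsoSuz S) : D3 S := by
  obtain ⟨e⟩ := h
  have hcard : Nat.card Suz = 448345497600 := card_Suz
  have hfin : Finite Suz := Nat.finite_of_card_ne_zero (by rw [hcard]; norm_num)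
  have hfS : Finite S := Finite.of_equiv Suz e.symm.toEquiv
  have h2 : Fact (Nat.Prime 2) := ⟨Nat.prime_two⟩
  intro Q
  -- `T` is a Sylow subgroup
  have hT : IsPGroup 2 T := IsPGroup.iff_card.2 ⟨13, by rw [card_T]; norm_num⟩
  obtain ⟨T', hT'⟩ := hT.exists_le_sylow
  have hcT : Nat.card T' = 8192 := by
    have h3 := T'.card_eq_multiplicity
    rw [hcard] at h3
    have h4 : (448345497600 : ℕ).factorization 2 = 13 := by
      rw [Nat.factorization_def _ Nat.prime_two]
      have h5 : (448345497600 : ℕ) = 2 ^ 13 * 54729675 := by norm_num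
      rw [h5, padicValNat.mul (by norm_num) (by norm_num), padicValNat.prime_pow,
        padicValNat.eq_zero_of_not_dvd (by norm_num)]
    rw [h4] at h3
    rw [h3]; norm_num
  have hTT : T = (T' : Subgroup Suz) := by
    apply Subgroup.eq_of_le_of_card_ge hT'
    rw [card_T]
    exact hcT.le
  -- transport
  let Q' : Sylow 2 Suz := Q.mapSurjective (f := (e : S →* Suz)) e.surjective
  obtain ⟨f, hf⟩ := rk_T
  have e1 : ↥(Q : Subgroup S) ≃* ↥(Q' : Subgroup Suz) :=
    (Q : Subgroup S).equivMapOfInjective (e : S →* Suz) e.injective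
  have e2 : ↥(Q' : Subgroup Suz) ≃* ↥(T' : Subgroup Suz) := Sylow.equiv Q' T'
  have e3 : ↥(T' : Subgroup Suz) ≃* ↥T := MulEquiv.subgroupCongr hTT.symm
  exact ⟨f.comp ((e1.trans (e2.trans e3)) : ↥(Q : Subgroup S) →* ↥T),
    hf.comp (e1.trans (e2.trans e3)).surjective⟩

end Cfsg.Agent.H834.K547
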