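import Cfsg.Agent.H834.K547.Par
import Cfsg.Agent.H834.K547.SuzRk
import Cfsg.Agent.H299.K4.Suz

/-!
# S4547: the row of `Suz` (helper834)

The character of degree 1001 in the permutation character on 1782 points is invariant under all automorphisms and
vanishes at the elements of order 11, which form one class: (PAR) gives three good invariant characters.
-/

set_option autoImplicit false

open Cfsg Cfsg.Agent.Characters.Core Cfsg.Agent.Characters

namespace Cfsg.Agent.H834.K547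

open Cfsg.Agent.H601.K4 Cfsg.Agent.H821.K547 Cfsg.Agent.H329.K4
open Cfsg.Spor (Suz)
open Cfsg.Agent.H978.TZ.Suzuki (finS exists_chars eq_of_sum card_Fx_aut)
open Cfsg.Agent.H299.K4.SuzRow (card_suz card_Fx_pow)

universe u

/-- the character of degree 1001 -/
theorem exists_1001' : ∃ β : Suz → ℂ, Good β ∧ β 1 = 1001 ∧ ∀ (φ : MulAut Suz) (g : Suz), β (φ g) = β g := by
  have := finS
  obtain ⟨χ, ψ, h1, h2, hfx⟩ := exists_chars
  have db : charDegree (ψ : Suz → ℂ) = 1001 := Cfsg.Agent.Blocks.Basic.charDegree_of_eq (by rw [h2]; norm_num)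
  refine ⟨ψ, ?_, h2, fun φ g => ?_⟩
  · refine good_of (Cfsg.Agent.H989.TwoCSpor.twoC_suz ⟨MulEquiv.refl _⟩) ⟨ψ.2, by rw [db]; decide⟩
      (SigFix.of_pow fun k hk g => ?_)
    have k1 : IsIrrCharacter Suz (fun g => (χ : Suz → ℂ) (g ^ k)) := GaloisIrr.isIrr_pow hk χ.2
    have k2 : IsIrrCharacter Suz (fun g => (ψ : Suz → ℂ) (g ^ k)) := GaloisIrr.isIrr_pow hk ψ.2
    have h := (eq_of_sum χ.2 ψ.2 k1 k2 (fun x => ?_) ?_ ?_).symm
    · exact congrFun h g
    · rw [← hfx]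
      show _ = 1 + (χ : Suz → ℂ) (x ^ k) + (ψ : Suz → ℂ) (x ^ k)
      rw [← hfx, card_Fx_pow hk]
    · show (χ : Suz → ℂ) 1 ≠ (ψ : Suz → ℂ) (1 ^ k)
      rw [one_pow, h1, h2]
      norm_num
    · show (χ : Suz → ℂ) (1 ^ k) ≠ (ψ : Suz → ℂ) (1 ^ k)
      rw [one_pow, h1, h2]
      norm_num
  · have k1 : IsIrrCharacter Suz ((χ : Suz → ℂ) ∘ φ) := isIrr_comp (φ : Suz →* Suz) φ.surjective χ.2
    have k2 : IsIrrCharacter Suz ((ψ : Suz → ℂ) ∘ φ) := isIrr_comp (φ : Suz →* Suz) φ.surjective ψ.2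
    have h := (eq_of_sum χ.2 ψ.2 k1 k2 (fun x => ?_) ?_ ?_).symm
    · exact congrFun h g
    · rw [← hfx]
      show _ = 1 + (χ : Suz → ℂ) (φ x) + (ψ : Suz → ℂ) (φ x)
      rw [← hfx, card_Fx_aut]
    · show (χ : Suz → ℂ) 1 ≠ (ψ : Suz → ℂ) (φ 1)
      rw [map_one, h1, h2]
      norm_num
    · show (χ : Suz → ℂ) (φ 1) ≠ (ψ : Suz → ℂ) (φ 1)
      rw [map_one, h1, h2]
      norm_num

/-- **three invariant good characters** -/
theorem gInv3_model {τ : MulAut Suz} (hτ : TwoPow τ) : GInv3 τ := by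
  have := finS
  have : Fact (Nat.Prime 11) := ⟨by norm_num⟩
  obtain ⟨β, hb, hb1, hbi⟩ := exists_1001'
  obtain ⟨t, ht, hC⟩ := Cfsg.Agent.H348.PPD.RowSuz.cent11
  refine gInv3_of_zero (by rw [card_suz]; decide) hτ hb (hbi τ) (t := t) (by rw [ht]; decide) ?_ ?_
  · refine isConj_of_self (p := 11) (m := 40758681600) (by rw [card_suz]) ht hC (by norm_num) ?_ ht
    rw [MulEquiv.orderOf_eq, ht]
  · exact H740.K4.zero_of_dvd (p := 11) (n := 1) (d := 1001) (by norm_num) (by rw [card_suz]; norm_num)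
      (by rw [card_suz]; norm_num) hb.odd.1 (by rw [hb1]; norm_num) (by norm_num) (by rw [ht])

theorem gInv3_suz {S : Type u} [Group S] (h : Spor.IsoSuz S) {τ : MulAut S} (hτ : TwoPow τ) : GInv3 τ := by
  obtain ⟨e⟩ := h
  exact gInv3_of_equiv e (tr_apply e τ) (gInv3_model (TwoPow.tr e hτ))

/-- squares are inner -/
theorem sq_suz {S : Type u} [Group S] (h : Spor.IsoSuz S) (τ : MulAut S) : ∃ s : S, τ ^ 2 = MulAut.conj s := by
  obtain ⟨e⟩ := h
  obtain ⟨n, hn⟩ := sq_inner_of_index (S := Suz) Cfsg.Agent.S2074.result (tr e τ)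
  refine ⟨e.symm n, ?_⟩
  ext x
  apply e.injective
  have h1 := congrArg (fun a : MulAut Suz => a (e x)) hn
  simp only [tr_pow, e.symm_apply_apply, MulAut.conj_apply] at h1
  rw [h1, MulAut.conj_apply, map_mul, map_mul, map_inv, e.apply_symm_apply]

theorem base_suz {S : Type u} [Group S] (h : Spor.IsoSuz S) : BaseRow S :=
  Or.inl ⟨Cfsg.Agent.H299.K4.SuzRow.good5 h, d3_suz h⟩

end Cfsg.Agent.H834.K547
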